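import Mathlib

/-!
# Degreewise split monomorphic quasi-isomorphisms of chain complexes of projective modules
-/

universe u v

open CategoryTheory

namespace Groth.Agent.FreeCx

variable {R : Type u} [Ring R]

theorem lift_of_exact {P A B C : Type*} [AddCommGroup P] [Module R P] [AddCommGroup A] [Module R A]
    [AddCommGroup B] [Module R B] [AddCommGroup C] [Module R C] [Module.Projective R P]
    (f : A →ₗ[R] B) (g : B →ₗ[R] C) (h : Function.Exact f g) (u : P →ₗ[R] B) (hu : g ∘ₗ u = 0) :
    ∃ w : P →ₗ[R] A, f ∘ₗ w = u := by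
  have hmem : ∀ x, u x ∈ LinearMap.range f := fun x => (h (u x)).1 (LinearMap.congr_fun hu x)
  obtain ⟨w, hw⟩ := Module.projective_lifting_property f.rangeRestrict (u.codRestrict _ hmem) f.surjective_rangeRestrict
  exact ⟨w, LinearMap.ext fun x => congrArg Subtype.val (LinearMap.congr_fun hw x)⟩

variable (Q : ChainComplex (ModuleCat.{v} R) ℕ)

/-- Contraction of an acyclic complex of projectives. -/
theorem exists_contraction [∀ n, Module.Projective R (Q.X n)] (hQ : Q.Acyclic) :
    ∃ s : ∀ n, Q.X n →ₗ[R] Q.X (n + 1),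
      (Q.d 1 0).hom ∘ₗ s 0 = LinearMap.id ∧
      ∀ n, (Q.d (n + 2) (n + 1)).hom ∘ₗ s (n + 1) + s n ∘ₗ (Q.d (n + 1) n).hom = LinearMap.id := by
  classical
  have hex : ∀ i j k, (ComplexShape.down ℕ).prev j = i → (ComplexShape.down ℕ).next j = k →
      Function.Exact (Q.d i j).hom (Q.d j k).hom := fun i j k hi hk =>
    (ShortComplex.ShortExact.moduleCat_exact_iff_function_exact _).1
      ((HomologicalComplex.exactAt_iff' Q i j k hi hk).1 (hQ j))
  have h0 : ∃ w : Q.X 0 →ₗ[R] Q.X 1, (Q.d 1 0).hom ∘ₗ w = LinearMap.id :=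
    lift_of_exact (Q.d 1 0).hom (Q.d 0 0).hom (hex 1 0 0 (by simp) (by simp)) LinearMap.id
      (by rw [Q.shape 0 0 (by simp)]; rfl)
  let P : ∀ n, Type _ := fun n => {w : Q.X n →ₗ[R] Q.X (n + 1) //
    (Q.d (n + 1) n).hom ∘ₗ w ∘ₗ (Q.d (n + 1) n).hom = (Q.d (n + 1) n).hom}
  have step : ∀ n (w : P n), ∃ w' : P (n + 1),
      (Q.d (n + 2) (n + 1)).hom ∘ₗ w'.1 + w.1 ∘ₗ (Q.d (n + 1) n).hom = LinearMap.id := by
    intro n w
    have hdd : (Q.d (n + 1) n).hom ∘ₗ (Q.d (n + 2) (n + 1)).hom = 0 := by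
      rw [← ModuleCat.hom_comp, Q.d_comp_d, ModuleCat.hom_zero]
    obtain ⟨w', hw'⟩ := lift_of_exact (Q.d (n + 2) (n + 1)).hom (Q.d (n + 1) n).hom (hex _ _ _ (by simp) (by simp))
      (LinearMap.id - w.1 ∘ₗ (Q.d (n + 1) n).hom) (by rw [LinearMap.comp_sub, LinearMap.comp_id, w.2, sub_self])
    refine ⟨⟨w', ?_⟩, by rw [hw', sub_add_cancel]⟩
    rw [← LinearMap.comp_assoc, hw', LinearMap.sub_comp, LinearMap.id_comp, LinearMap.comp_assoc, hdd,
      LinearMap.comp_zero, sub_zero]
  choose next hnext using step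
  let S : ∀ n, P n := fun n => Nat.rec ⟨h0.choose, by rw [← LinearMap.comp_assoc, h0.choose_spec, LinearMap.id_comp]⟩ next n
  exact ⟨fun n => (S n).1, h0.choose_spec, fun n => hnext n (S n)⟩

variable {A' A A'' : ChainComplex (ModuleCat.{v} R) ℕ} (f : A' ⟶ A) (p : A ⟶ A'')

theorem comm_apply {K L : ChainComplex (ModuleCat.{v} R) ℕ} (g : K ⟶ L) (i j : ℕ) (x : K.X i) :
    (g.f j).hom ((K.d i j).hom x) = (L.d i j).hom ((g.f i).hom x) :=
  (ConcreteCategory.congr_hom (g.comm i j) x).symm

theorem d_d_apply {K : ChainComplex (ModuleCat.{v} R) ℕ} (i j k : ℕ) (x : K.X i) :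
    (K.d j k).hom ((K.d i j).hom x) = 0 := by
  rw [← LinearMap.comp_apply, ← ModuleCat.hom_comp, K.d_comp_d]
  rfl

theorem comp_eq_zero (hfp : ∀ q, Function.Exact (f.f q).hom (p.f q).hom) : f ≫ p = 0 := by
  refine HomologicalComplex.Hom.ext (funext fun q => ModuleCat.hom_ext (LinearMap.ext fun x => ?_))
  exact (hfp q).apply_apply_eq_zero x

theorem acyclic_coker (hf : ∀ q, Function.Injective (f.f q).hom) (hp : ∀ q, Function.Surjective (p.f q).hom)
    (hfp : ∀ q, Function.Exact (f.f q).hom (p.f q).hom) [QuasiIso f] : A''.Acyclic :=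
  ShortComplex.ShortExact.acyclic_X₃ (S := ShortComplex.mk f p (comp_eq_zero f p hfp))
    (HomologicalComplex.shortExact_of_degreewise_shortExact _ fun q =>
      ModuleCat.shortComplex_shortExact _ (hfp q) (hf q) (hp q)) ‹_›

/-- A chain map section of a surjection onto an acyclic complex of projectives, with its homotopy. -/
theorem exists_section [∀ n, Module.Projective R (A''.X n)] (hA : A''.Acyclic)
    (hp : ∀ q, Function.Surjective (p.f q).hom) :
    ∃ h : A'' ⟶ A, h ≫ p = 𝟙 A'' := by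
  classical
  obtain ⟨s, hs0, hs⟩ := exists_contraction A'' hA
  have : ∀ q, ∃ σ : A''.X q →ₗ[R] A.X q, (p.f q).hom ∘ₗ σ = LinearMap.id := fun q =>
    Module.projective_lifting_property _ _ (hp q)
  choose σ hσ using this
  let H : ∀ n, A''.X n →ₗ[R] A.X n := fun n => match n with
    | 0 => (A.d 1 0).hom ∘ₗ σ 1 ∘ₗ s 0
    | n + 1 => (A.d (n + 2) (n + 1)).hom ∘ₗ σ (n + 2) ∘ₗ s (n + 1) + σ (n + 1) ∘ₗ s n ∘ₗ (A''.d (n + 1) n).hom
  refine ⟨{ f := fun n => ModuleCat.ofHom (H n), comm' := ?_ }, ?_⟩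
  · rintro i j (rfl : j + 1 = i)
    refine ModuleCat.hom_ext (LinearMap.ext fun x => ?_)
    show (A.d (j + 1) j).hom (H (j + 1) x) = H j ((A''.d (j + 1) j).hom x)
    cases j with
    | zero =>
      simp only [H, LinearMap.add_apply, LinearMap.comp_apply, map_add, d_d_apply, zero_add]
    | succ j =>
      simp only [H, LinearMap.add_apply, LinearMap.comp_apply, map_add, d_d_apply, zero_add, map_zero, add_zero]
  · refine HomologicalComplex.Hom.ext (funext fun n => ModuleCat.hom_ext (LinearMap.ext fun x => ?_))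
    show (p.f n).hom (H n x) = x
    cases n with
    | zero =>
      simp only [H, LinearMap.comp_apply, comm_apply]
      rw [show (p.f 1).hom (σ 1 (s 0 x)) = s 0 x from LinearMap.congr_fun (hσ 1) _]
      exact LinearMap.congr_fun hs0 x
    | succ n =>
      simp only [H, LinearMap.add_apply, LinearMap.comp_apply, map_add, comm_apply]
      rw [show ∀ y, (p.f (n + 2)).hom (σ (n + 2) y) = y from LinearMap.congr_fun (hσ _),
        show ∀ y, (p.f (n + 1)).hom (σ (n + 1) y) = y from LinearMap.congr_fun (hσ _)]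
      exact LinearMap.congr_fun (hs n) x

/-- The quotient complex by a chain map. -/
noncomputable def coker : ChainComplex (ModuleCat.{v} R) ℕ where
  X q := ModuleCat.of R ((A.X q) ⧸ LinearMap.range (f.f q).hom)
  d i j := ModuleCat.ofHom (Submodule.mapQ (LinearMap.range (f.f i).hom) (LinearMap.range (f.f j).hom) (A.d i j).hom (by
    rintro _ ⟨x, rfl⟩
    exact ⟨(A'.d i j).hom x, comm_apply f i j x⟩))
  shape i j h := by
    refine ModuleCat.hom_ext (Submodule.linearMap_qext _ (LinearMap.ext fun x => ?_))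
    simp [A.shape i j h]
  d_comp_d' i j k _ _ := by
    refine ModuleCat.hom_ext (Submodule.linearMap_qext _ (LinearMap.ext fun x => ?_))
    simp [Submodule.mapQ_apply, d_d_apply]

/-- The projection onto the quotient complex. -/
noncomputable def cokerπ : A ⟶ coker f where
  f q := ModuleCat.ofHom (LinearMap.range (f.f q).hom).mkQ
  comm' i j _ := by
    refine ModuleCat.hom_ext (LinearMap.ext fun x => ?_)
    rfl

theorem cokerπ_surjective (q : ℕ) : Function.Surjective ((cokerπ f).f q).hom :=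
  Submodule.mkQ_surjective _

theorem cokerπ_exact (q : ℕ) : Function.Exact (f.f q).hom ((cokerπ f).f q).hom :=
  LinearMap.exact_map_mkQ_range _

theorem exists_retraction (hf : ∀ q, Function.Injective (f.f q).hom)
    [∀ q, Module.Projective R ((A.X q) ⧸ LinearMap.range (f.f q).hom)] [QuasiIso f] :
    ∃ g : A ⟶ A', f ≫ g = 𝟙 A' := by
  classical
  have : ∀ q, Module.Projective R ((coker f).X q) := fun q =>
    inferInstanceAs (Module.Projective R ((A.X q) ⧸ LinearMap.range (f.f q).hom))
  obtain ⟨h, hh⟩ := exists_section (cokerπ f) (acyclic_coker f _ hf (cokerπ_surjective f) (cokerπ_exact f)) (cokerπ_surjective f)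
  let e := fun q => LinearEquiv.ofInjective (f.f q).hom (hf q)
  let u : ∀ q, A.X q →ₗ[R] A.X q := fun q => LinearMap.id - (h.f q).hom ∘ₗ ((cokerπ f).f q).hom
  have hu : ∀ q x, u q x ∈ LinearMap.range (f.f q).hom := fun q x => by
    refine (cokerπ_exact f q _).1 ?_
    have := ConcreteCategory.congr_hom (HomologicalComplex.congr_hom hh q) (((cokerπ f).f q).hom x)
    simp only [u, LinearMap.sub_apply, LinearMap.id_apply, LinearMap.comp_apply, map_sub]
    rw [sub_eq_zero]
    exact this.symm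
  let g : ∀ q, A.X q →ₗ[R] A'.X q := fun q => (e q).symm.toLinearMap ∘ₗ (u q).codRestrict _ (hu q)
  have hg : ∀ q x, (f.f q).hom (g q x) = u q x := fun q x => by
    have := (e q).apply_symm_apply ((u q).codRestrict _ (hu q) x)
    exact congrArg Subtype.val this
  refine ⟨{ f := fun q => ModuleCat.ofHom (g q), comm' := ?_ }, ?_⟩
  · intro i j _
    refine ModuleCat.hom_ext (LinearMap.ext fun x => hf j ?_)
    show (f.f j).hom ((A'.d i j).hom (g i x)) = (f.f j).hom (g j ((A.d i j).hom x))
    simp only [comm_apply, hg, u, LinearMap.sub_apply, LinearMap.id_apply, LinearMap.comp_apply, map_sub]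
  · refine HomologicalComplex.Hom.ext (funext fun q => ModuleCat.hom_ext (LinearMap.ext fun x => hf q ?_))
    show (f.f q).hom (g q ((f.f q).hom x)) = (f.f q).hom x
    simp only [hg, u, LinearMap.sub_apply, LinearMap.id_apply, LinearMap.comp_apply,
      (cokerπ_exact f q).apply_apply_eq_zero x, map_zero, sub_zero]

end Groth.Agent.FreeCx
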